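import Groth.Agent.RegSeqSlice.Ring
import Groth.Prelude.Def_Mor2

/-!
A flat map to affine space cuts out a universally regular closed immersion.
-/

set_option autoImplicit false
universe u
open CategoryTheory CategoryTheory.Limits AlgebraicGeometry TensorProduct RingTheory.Sequence

namespace Groth.Agent.RegSeqSlice

/-- The pullback of `Spec (B/I) → Spec B` along `Spec B' → Spec B`. -/
theorem isPullback_spec_quot {B B' : Type u} [CommRing B] [CommRing B'] [Algebra B B'] (I : Ideal B) (J : Ideal B')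
    (hJ : J = I.map (algebraMap B B')) :
    ∃ m : Spec (CommRingCat.of (B' ⧸ J)) ⟶ Spec (CommRingCat.of (B ⧸ I)),
      IsPullback (Spec.map (CommRingCat.ofHom (Ideal.Quotient.mk J))) m
        (Spec.map (CommRingCat.ofHom (algebraMap B B'))) (Spec.map (CommRingCat.ofHom (algebraMap B (B ⧸ I)))) := by
  subst hJ
  let E := Algebra.TensorProduct.quotIdealMapEquivTensorQuot B' I
  let eI : Spec (CommRingCat.of (B' ⊗[B] (B ⧸ I))) ≅ Spec (CommRingCat.of (B' ⧸ I.map (algebraMap B B'))) :=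
    Scheme.Spec.mapIso E.toRingEquiv.toCommRingCatIso.op
  let T := pullbackSpecIso B B' (B ⧸ I) ≪≫ eI
  refine ⟨T.inv ≫ pullback.snd _ _, (IsPullback.of_hasPullback _ _).of_iso T (Iso.refl _) (Iso.refl _) (Iso.refl _)
    ?_ (by simp) (by simp) (by simp)⟩
  rw [Iso.refl_hom, Category.comp_id, ← Iso.inv_comp_eq, Iso.trans_inv, Category.assoc, pullbackSpecIso_inv_fst]
  show Spec.map (CommRingCat.ofHom E.symm.toRingHom) ≫ Spec.map _ = _
  rw [← Spec.map_comp]
  congr 1
  refine CommRingCat.hom_ext (RingHom.ext fun b => ?_)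
  show E.symm (b ⊗ₜ[B] (1 : B ⧸ I)) = Ideal.Quotient.mk (I.map (algebraMap B B')) b
  rw [AlgEquiv.symm_apply_eq]
  rfl

/-- An affine chart in which a closed immersion is cut out by a regular sequence. -/
theorem exists_regular_affineOpen {Z X : Scheme.{u}} (i : Z ⟶ X) [IsClosedImmersion i] {B : Type u} [CommRing B]
    (j : Spec (CommRingCat.of B) ⟶ X) [IsOpenImmersion j] (rs : List B) (hreg : IsWeaklyRegular B rs)
    (m : Spec (CommRingCat.of (B ⧸ Ideal.ofList rs)) ⟶ Z)
    (hpb : IsPullback (Spec.map (CommRingCat.ofHom (Ideal.Quotient.mk (Ideal.ofList rs)))) m j i)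
    (z : Z) (hz : i z ∈ Set.range j) :
    ∃ (U : X.Opens) (hU : IsAffineOpen U), i z ∈ U ∧
      ∃ rs : List Γ(X, U), RingTheory.Sequence.IsRegular Γ(X, U) rs ∧ i.ker.ideal ⟨U, hU⟩ = Ideal.ofList rs := by
  let mk' := Spec.map (CommRingCat.ofHom (Ideal.Quotient.mk (Ideal.ofList rs)))
  let W : (Spec (CommRingCat.of B)).affineOpens := ⟨⊤, isAffineOpen_top _⟩
  obtain ⟨b, hb⟩ := hz
  obtain ⟨z', hz', -⟩ := Scheme.Pullback.exists_preimage_pullback b z hb
  let w : Spec (CommRingCat.of (B ⧸ Ideal.ofList rs)) := hpb.isoPullback.inv z'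
  have hne : Ideal.ofList rs ≠ ⊤ := fun h => (Ideal.Quotient.nontrivial_iff.1
    (PrimeSpectrum.nonempty_iff_nontrivial.1 ⟨w⟩)) h
  let E : Γ(X, j ''ᵁ ⊤) ≃+* B :=
    ((j.appIso ⊤) ≪≫ Scheme.ΓSpecIso (CommRingCat.of B)).commRingCatIsoToRingEquiv
  refine ⟨j ''ᵁ ⊤, W.2.image_of_isOpenImmersion _, ⟨b, trivial, hb⟩, rs.map E.symm, ?_, ?_⟩
  · have h1 : RingTheory.Sequence.IsRegular B rs := ⟨hreg, by
      rw [smul_eq_mul, Ideal.mul_top]; exact Ne.symm hne⟩
    refine (AddEquiv.isRegular_congr (e := E.symm.toAddEquiv) ?_).1 h1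
    exact List.forall₂_map_right_iff.2 (List.forall₂_same.2 fun r _ y => map_mul E.symm r y)
  · have h := Scheme.ker_ideal_of_isPullback_of_isOpenImmersion i mk' m j hpb W
    refine Eq.trans ?_ (Ideal.map_ofList E.symm.toRingHom rs)
    refine Eq.trans ?_ (Ideal.map_symm (f := E)).symm
    ext y
    rw [Ideal.mem_comap]
    have h2 := SetLike.ext_iff.1 h ((j.appIso ⊤).hom y)
    rw [Ideal.mem_comap] at h2
    erw [← CommRingCat.comp_apply, Iso.hom_inv_id] at h2
    refine h2.symm.trans ?_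
    haveI : QuasiCompact mk' := inferInstance
    rw [Scheme.Hom.ker_apply, RingHom.mem_ker]
    refine Iff.trans ?_ Ideal.Quotient.eq_zero_iff_mem
    have hn := congrArg (fun t => t ((j.appIso ⊤).hom y)) (Scheme.ΓSpecIso_naturality (CommRingCat.ofHom (Ideal.Quotient.mk (Ideal.ofList rs))))
    simp only [CommRingCat.comp_apply] at hn
    show mk'.appTop ((j.appIso ⊤).hom y) = 0 ↔ Ideal.Quotient.mk (Ideal.ofList rs) ((Scheme.ΓSpecIso (CommRingCat.of B)).hom ((j.appIso ⊤).hom y)) = 0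
    rw [← map_eq_zero_iff _ (ConcreteCategory.bijective_of_isIso (Scheme.ΓSpecIso (CommRingCat.of (B ⧸ Ideal.ofList rs))).hom).1]
    exact Eq.congr_left hn

/-- The zero locus of flat coordinates is a universally regular closed immersion. -/
theorem isRegularClosedImmersion_baseChange {S V Z S' : Scheme.{u}} {A B : Type u} [CommRing A] [CommRing B] [Algebra A B]
    {n : ℕ} [Algebra (MvPolynomial (Fin n) A) B] [IsScalarTower A (MvPolynomial (Fin n) A) B]
    [Module.Flat (MvPolynomial (Fin n) A) B]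
    (rs : List B) (hrs : rs = List.ofFn fun i => algebraMap (MvPolynomial (Fin n) A) B (MvPolynomial.X i))
    (iA : Spec (CommRingCat.of A) ⟶ S) [IsOpenImmersion iA] (e : Spec (CommRingCat.of B) ≅ V)
    (a : V ⟶ S) (ha : e.hom ≫ a = Spec.map (CommRingCat.ofHom (algebraMap A B)) ≫ iA)
    (eZ : Spec (CommRingCat.of (B ⧸ Ideal.ofList rs)) ≅ Z) (i : Z ⟶ V)
    (hi : eZ.hom ≫ i = Spec.map (CommRingCat.ofHom (Ideal.Quotient.mk (Ideal.ofList rs))) ≫ e.hom)
    (a' : Z ⟶ S) (g : S' ⟶ S) (h1 : a' ≫ 𝟙 S = i ≫ a) (h2 : g ≫ 𝟙 S = 𝟙 S' ≫ g) :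
    Mor2.IsRegularClosedImmersion (pullback.map a' g a g i (𝟙 S') (𝟙 S) h1 h2) := by
  haveI : IsClosedImmersion i := by
    have hdef : i = eZ.inv ≫ Spec.map (CommRingCat.ofHom (Ideal.Quotient.mk (Ideal.ofList rs))) ≫ e.hom := by
      rw [← hi, Iso.inv_hom_id_assoc]
    haveI : IsClosedImmersion (Spec.map (CommRingCat.ofHom (Ideal.Quotient.mk (Ideal.ofList rs)))) :=
      IsClosedImmersion.spec_of_surjective _ Ideal.Quotient.mk_surjective
    rw [hdef]; infer_instance
  set F := pullback.map a' g a g i (𝟙 S') (𝟙 S) h1 h2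
  have hF₁ : F ≫ pullback.fst a g = pullback.fst a' g ≫ i := pullback.lift_fst _ _ _
  have hF₂ : F ≫ pullback.snd a g = pullback.snd a' g := by
    rw [pullback.lift_snd, Category.comp_id]
  have hpbF : IsPullback F (pullback.fst a' g) (pullback.fst a g) i := by
    refine IsPullback.of_right ?_ hF₁ (IsPullback.of_hasPullback a g).flip
    rw [hF₂]
    rw [Category.comp_id] at h1
    exact h1 ▸ (IsPullback.of_hasPullback a' g).flip
  haveI : IsClosedImmersion F := MorphismProperty.of_isPullback hpbF.flip ‹IsClosedImmersion i›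
  refine ⟨inferInstance, fun z => ?_⟩
  let p := F z
  have hmem : g (pullback.snd a g p) ∈ iA.opensRange := by
    obtain ⟨b, hb⟩ := e.hom.surjective (pullback.fst a g p)
    refine ⟨Spec.map (CommRingCat.ofHom (algebraMap A B)) b, ?_⟩
    rw [← Scheme.Hom.comp_apply, ← ha, Scheme.Hom.comp_apply, hb, ← Scheme.Hom.comp_apply, pullback.condition, Scheme.Hom.comp_apply]
  obtain ⟨A', iA', hiA', ⟨s', hs'⟩, hsub⟩ := Scheme.exists_affine_mem_range_and_range_subset
    (show pullback.snd a g p ∈ g ⁻¹ᵁ iA.opensRange from hmem)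
  haveI := hiA'
  let φ := IsOpenImmersion.lift iA (iA' ≫ g) (by rintro _ ⟨w, rfl⟩; exact hsub ⟨w, rfl⟩)
  have hφ : φ ≫ iA = iA' ≫ g := IsOpenImmersion.lift_fac _ _ _
  letI : Algebra A A' := (Spec.preimage φ).hom.toAlgebra
  have hφ' : Spec.map (CommRingCat.ofHom (algebraMap A A')) = φ := Spec.map_preimage φ
  let B' := B ⊗[A] A'
  let k := pullback.map (Spec.map (CommRingCat.ofHom (algebraMap A B))) (Spec.map (CommRingCat.ofHom (algebraMap A A')))
    a g e.hom iA' iA ha.symm (by rw [hφ']; exact hφ)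
  let j : Spec (CommRingCat.of B') ⟶ pullback a g := (pullbackSpecIso A B A').inv ≫ k
  haveI : IsOpenImmersion j := inferInstance
  have hj : j ≫ pullback.fst a g = Spec.map (CommRingCat.ofHom (algebraMap B B')) ≫ e.hom := by
    rw [Category.assoc, pullback.lift_fst, pullbackSpecIso_inv_fst_assoc]
  let rs' : List B' := rs.map (algebraMap B B')
  have hmapI : (Ideal.ofList rs).map (algebraMap B B') = Ideal.ofList rs' := Ideal.map_ofList _ _
  have hregw : IsWeaklyRegular B' rs' := by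
    simp only [rs', hrs, List.map_ofFn]
    exact isWeaklyRegular_tensor A'
  obtain ⟨m₀, hm₀⟩ := isPullback_spec_quot (B' := B') (Ideal.ofList rs) (Ideal.ofList rs') hmapI.symm
  have hsq : IsPullback (Spec.map (CommRingCat.ofHom (Ideal.Quotient.mk (Ideal.ofList rs')))) (m₀ ≫ eZ.hom)
      (Spec.map (CommRingCat.ofHom (algebraMap B B')) ≫ e.hom) i :=
    hm₀.paste_vert (IsPullback.of_vert_isIso ⟨hi.symm⟩)
  rw [← hj] at hsq
  let mF : Spec (CommRingCat.of (B' ⧸ Ideal.ofList rs')) ⟶ pullback a' g :=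
    hpbF.lift (Spec.map (CommRingCat.ofHom (Ideal.Quotient.mk (Ideal.ofList rs'))) ≫ j) (m₀ ≫ eZ.hom)
      (by rw [Category.assoc]; exact hsq.w)
  have hsq' : IsPullback (Spec.map (CommRingCat.ofHom (Ideal.Quotient.mk (Ideal.ofList rs')))) mF j F := by
    refine IsPullback.of_bot ?_ (hpbF.lift_fst _ _ _).symm hpbF
    rwa [hpbF.lift_snd]
  refine exists_regular_affineOpen F j rs' hregw mF hsq' z ?_
  have hrk : p ∈ Set.range k := by
    rw [Scheme.Pullback.range_map]
    refine ⟨?_, s', hs'⟩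
    exact e.hom.surjective _
  obtain ⟨t, ht⟩ := hrk
  obtain ⟨t, rfl⟩ := (pullbackSpecIso A B A').inv.surjective t
  exact ⟨t, ht⟩

end Groth.Agent.RegSeqSlice
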