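import Groth.Agent.RegSeqSlice.Flat
import Groth.Agent.RegSeqSlice.BaseChange
import Groth.Agent.CMFlatLib.Locus
import Groth.Agent.CMFlatLib.Affine

/-!
Germs inducing a regular sequence in the fibre spread out to flat coordinates.
-/

set_option autoImplicit false
universe u
open CategoryTheory AlgebraicGeometry RingTheory.Sequence IsLocalRing

namespace Groth.Agent.RegSeqSlice

/-- Finitely many germs live on a common open. -/
theorem exists_germs {X : Scheme.{u}} (x : X) (n : ℕ) (h : Fin n → X.presheaf.stalk x) :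
    ∃ (U : X.Opens) (hx : x ∈ U) (s : Fin n → Γ(X, U)), ∀ i, X.presheaf.germ U x hx (s i) = h i := by
  classical
  choose W hW s hs using fun i => TopCat.Presheaf.exists_germ_eq X.presheaf (h i)
  let U : X.Opens := ⟨⋂ i, (W i : Set X), isOpen_iInter_of_finite fun i => (W i).2⟩
  refine ⟨U, Set.mem_iInter.2 hW, fun i => X.presheaf.map (homOfLE (show U ≤ W i from Set.iInter_subset (fun j => (W j : Set X)) i)).op (s i), fun i => ?_⟩
  rw [X.presheaf.germ_res_apply]
  exact hs i

set_option maxHeartbeats 800000 in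
/-- Germs inducing a regular sequence in the fibre are flat coordinates on an affine neighbourhood. -/
theorem exists_flat_coordinates {X S : Scheme.{u}} (f : X ⟶ S) [LocallyOfFinitePresentation f] (x : X)
    (hflat : (f.stalkMap x).hom.Flat) {n : ℕ} (h : Fin n → X.presheaf.stalk x) (hm : ∀ i, h i ∈ maximalIdeal (X.presheaf.stalk x))
    (hreg : IsWeaklyRegular (↑(X.presheaf.stalk x) ⧸ Ideal.map (f.stalkMap x).hom (maximalIdeal ↑(S.presheaf.stalk (f x))))
      (List.ofFn fun i => Ideal.Quotient.mk (Ideal.map (f.stalkMap x).hom (maximalIdeal ↑(S.presheaf.stalk (f x)))) (h i))) :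
    ∃ (W : S.Opens) (U : X.Opens) (hW : IsAffineOpen W) (hU : IsAffineOpen U) (hx : x ∈ U) (e : U ≤ f ⁻¹ᵁ W) (b : Fin n → Γ(X, U)),
      (∀ i, X.presheaf.germ U x hx (b i) = h i) ∧
      letI := (f.appLE W U e).hom.toAlgebra
      letI := (MvPolynomial.aeval (R := Γ(S, W)) b).toRingHom.toAlgebra
      Module.Flat (MvPolynomial (Fin n) Γ(S, W)) Γ(X, U) := by
  obtain ⟨U₀, hxU₀, b₀, hb₀⟩ := exists_germs x n h
  obtain ⟨_, ⟨W : S.Opens, hW, rfl⟩, hfxW, -⟩ :=
    S.isBasis_affineOpens.exists_subset_of_mem_open (Set.mem_univ (f x)) isOpen_univ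
  obtain ⟨_, ⟨V : X.Opens, hV, rfl⟩, hxV, hVU⟩ :=
    X.isBasis_affineOpens.exists_subset_of_mem_open (a := x) (u := ↑(U₀ ⊓ f ⁻¹ᵁ W)) ⟨hxU₀, hfxW⟩ (U₀ ⊓ f ⁻¹ᵁ W).2
  have hVW : V ≤ f ⁻¹ᵁ W := fun y hy => (hVU hy).2
  have hV₀ : V ≤ U₀ := fun y hy => (hVU hy).1
  let bV : Fin n → Γ(X, V) := fun i => X.presheaf.map (homOfLE hV₀).op (b₀ i)
  have hbV : ∀ i, X.presheaf.germ V x hxV (bV i) = h i := fun i => by
    rw [X.presheaf.germ_res_apply]; exact hb₀ i
  letI algAB : Algebra Γ(S, W) Γ(X, V) := (f.appLE W V hVW).hom.toAlgebra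
  haveI : Algebra.FinitePresentation Γ(S, W) Γ(X, V) := f.finitePresentation_appLE hW hV hVW
  let A := Γ(S, W)
  let B := Γ(X, V)
  let O := X.presheaf.stalk x
  let q : Ideal B := (hV.primeIdealOf ⟨x, hxV⟩).asIdeal
  let p : Ideal A := (hW.primeIdealOf ⟨f x, hVW hxV⟩).asIdeal
  letI : Algebra B O := TopCat.Presheaf.algebra_section_stalk X.presheaf ⟨x, hxV⟩
  letI : Algebra A (S.presheaf.stalk (f x)) := TopCat.Presheaf.algebra_section_stalk S.presheaf ⟨f x, hVW hxV⟩
  haveI : IsLocalization.AtPrime O q := hV.isLocalization_stalk ⟨x, hxV⟩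
  haveI : IsLocalization.AtPrime (S.presheaf.stalk (f x)) p := hW.isLocalization_stalk ⟨f x, hVW hxV⟩
  letI := (f.stalkMap x).hom.toAlgebra
  letI : Algebra A O := ((X.presheaf.germ V x hxV).hom.comp (f.appLE W V hVW).hom).toAlgebra
  haveI : IsScalarTower A B O := .of_algebraMap_eq fun _ => rfl
  haveI : IsScalarTower A (S.presheaf.stalk (f x)) O := .of_algebraMap_eq fun r => by
    show X.presheaf.germ V x hxV (f.appLE W V hVW r) = f.stalkMap x (S.presheaf.germ W (f x) (hVW hxV) r)
    rw [Scheme.Hom.germ_stalkMap_apply, Scheme.Hom.appLE, CommRingCat.comp_apply, X.presheaf.germ_res_apply]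
  have hms : Ideal.map (f.stalkMap x).hom (maximalIdeal (S.presheaf.stalk (f x))) = p.map (algebraMap A O) := by
    rw [IsScalarTower.algebraMap_eq A (S.presheaf.stalk (f x)) O, ← Ideal.map_map,
      IsLocalization.AtPrime.map_eq_maximalIdeal p (S.presheaf.stalk (f x))]
    rfl
  haveI : q.LiesOver p := ⟨by
    refine Ideal.ext fun a => ?_
    rw [Ideal.mem_comap, ← IsLocalization.AtPrime.to_map_mem_maximal_iff (S.presheaf.stalk (f x)) p a,
      ← IsLocalization.AtPrime.to_map_mem_maximal_iff O q _, mem_maximalIdeal, mem_maximalIdeal,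
      ← IsScalarTower.algebraMap_apply, IsScalarTower.algebraMap_apply A (S.presheaf.stalk (f x)) O]
    exact not_iff_not.2 (isUnit_map_iff (f.stalkMap x).hom _).symm⟩
  let L := Localization.AtPrime q
  let eL : L ≃ₐ[B] O := IsLocalization.algEquiv q.primeCompl L O
  haveI : Module.Flat (S.presheaf.stalk (f x)) O := hflat
  haveI : Module.Flat A (S.presheaf.stalk (f x)) := IsLocalization.flat _ p.primeCompl
  haveI : Module.Flat A O := Module.Flat.trans A (S.presheaf.stalk (f x)) O
  haveI : Module.Flat A L := Module.Flat.of_linearEquiv (eL.toLinearEquiv.restrictScalars A)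
  let φ : MvPolynomial (Fin n) A →ₐ[A] B := MvPolynomial.aeval bV
  letI : Algebra (MvPolynomial (Fin n) A) B := φ.toRingHom.toAlgebra
  haveI : IsScalarTower A (MvPolynomial (Fin n) A) B := IsScalarTower.of_algHom φ
  have hX : ∀ i, algebraMap (MvPolynomial (Fin n) A) B (MvPolynomial.X i) = bV i := fun i => MvPolynomial.aeval_X _ _
  have hq : ∀ i, algebraMap (MvPolynomial (Fin n) A) B (MvPolynomial.X i) ∈ q := fun i => by
    rw [hX, ← IsLocalization.AtPrime.to_map_mem_maximal_iff O q]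
    show X.presheaf.germ V x hxV (bV i) ∈ _
    rw [hbV]
    exact hm i
  let eLA : L ≃+* O := eL.toRingEquiv
  have hpL : Ideal.map (f.stalkMap x).hom (maximalIdeal (S.presheaf.stalk (f x))) = (p.map (algebraMap A L)).map eLA.toRingHom := by
    rw [hms, Ideal.map_map]
    congr 1
    exact RingHom.ext fun a => by
      show algebraMap A O a = eL (algebraMap A L a)
      rw [IsScalarTower.algebraMap_apply A B L, eL.commutes, ← IsScalarTower.algebraMap_apply]
  let eQ := Ideal.quotientEquiv _ _ eLA hpL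
  have hregL : IsWeaklyRegular (L ⧸ p.map (algebraMap A L)) (List.ofFn fun i =>
      algebraMap B (L ⧸ p.map (algebraMap A L)) (algebraMap (MvPolynomial (Fin n) A) B (MvPolynomial.X i))) := by
    refine (eQ.toAddEquiv.isWeaklyRegular_congr ?_).2 hreg
    rw [List.forall₂_iff_get]
    refine ⟨by simp, fun i h₁ h₂ z => ?_⟩
    simp only [List.get_ofFn]
    show eQ (_ * z) = _ * eQ z
    rw [map_mul, hX, ← hbV]
    congr 1
    show Ideal.Quotient.mk _ (eLA (algebraMap B L (bV _))) = _
    rw [show eLA (algebraMap B L (bV _)) = algebraMap B O (bV _) from eL.commutes _]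
    rfl
  have hflatq : Module.Flat (MvPolynomial (Fin n) A) L := flat_poly_of_fibre_regular p q hq hregL
  haveI : Algebra.FinitePresentation (MvPolynomial (Fin n) A) B := Algebra.FinitePresentation.of_restrict_scalars_finitePresentation A _ B
  obtain ⟨_, ⟨g, rfl⟩, hgq, hgsub⟩ := PrimeSpectrum.isTopologicalBasis_basic_opens.exists_subset_of_mem_open
    (show (⟨q, inferInstance⟩ : PrimeSpectrum B) ∈ {P : PrimeSpectrum B | Module.Flat (MvPolynomial (Fin n) A) (Localization.AtPrime P.asIdeal)} from hflatq)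
    (CMFlatLib.isOpen_flat_atPrime (A := MvPolynomial (Fin n) A) (B := B))
  let U := X.basicOpen g
  have hUV : U ≤ V := X.basicOpen_le g
  have hxU : x ∈ U := by
    rw [X.mem_basicOpen g x hxV]
    exact IsLocalization.map_units O (⟨g, hgq⟩ : q.primeCompl)
  letI : Algebra B Γ(X, U) := (X.presheaf.map (homOfLE hUV).op).hom.toAlgebra
  haveI : IsLocalization.Away g Γ(X, U) := hV.isLocalization_basicOpen g
  haveI : Module.Flat (MvPolynomial (Fin n) A) (Localization.Away g) :=
    CMFlatLib.flat_of_localizations fun P _ => by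
      haveI : (P.under B).IsPrime := Ideal.IsPrime.comap _
      have hg' : g ∉ P.under B := fun h => (Ideal.IsMaximal.ne_top ‹_›)
        (P.eq_top_of_isUnit_mem h (IsLocalization.Away.algebraMap_isUnit g))
      haveI : Module.Flat (MvPolynomial (Fin n) A) (Localization.AtPrime (P.under B)) := hgsub (show (⟨P.under B, inferInstance⟩ : PrimeSpectrum B) ∈ (PrimeSpectrum.basicOpen g : Set (PrimeSpectrum B)) from hg')
      haveI : IsLocalization.AtPrime (Localization.AtPrime P) (P.under B) :=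
        IsLocalization.isLocalization_isLocalization_atPrime_isLocalization (Submonoid.powers g) (Localization.AtPrime P) P
      exact Module.Flat.of_linearEquiv ((IsLocalization.algEquiv (P.under B).primeCompl (Localization.AtPrime P)
        (Localization.AtPrime (P.under B))).toLinearEquiv.restrictScalars (MvPolynomial (Fin n) A))
  refine ⟨W, U, hW, hV.basicOpen g, hxU, hUV.trans hVW, fun i => algebraMap B Γ(X, U) (bV i), fun i => ?_, ?_⟩
  · show X.presheaf.germ U x hxU (X.presheaf.map (homOfLE hUV).op (bV i)) = h i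
    rw [X.presheaf.germ_res_apply]
    exact hbV i
  · letI algU := (f.appLE W U (hUV.trans hVW)).hom.toAlgebra
    let ψ : MvPolynomial (Fin n) A →ₐ[A] Γ(X, U) := MvPolynomial.aeval fun i => algebraMap B Γ(X, U) (bV i)
    letI := ψ.toRingHom.toAlgebra
    haveI : IsScalarTower A B Γ(X, U) := .of_algebraMap_eq fun r => by
      show f.appLE W U (hUV.trans hVW) r = X.presheaf.map (homOfLE hUV).op (f.appLE W V hVW r)
      rw [← CommRingCat.comp_apply, Scheme.Hom.appLE_map]
    have hψ : ψ = (IsScalarTower.toAlgHom A B Γ(X, U)).comp φ := MvPolynomial.algHom_ext fun i => by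
      show MvPolynomial.aeval (fun i => algebraMap B Γ(X, U) (bV i)) (MvPolynomial.X i) = algebraMap B Γ(X, U) (φ (MvPolynomial.X i))
      rw [MvPolynomial.aeval_X, MvPolynomial.aeval_X]
    let eU : Localization.Away g ≃ₐ[B] Γ(X, U) := IsLocalization.algEquiv (Submonoid.powers g) _ _
    exact Module.Flat.of_linearEquiv (R := MvPolynomial (Fin n) A)
      { eU.toRingEquiv.toAddEquiv.symm with
        map_smul' := fun t z => by
          show eU.symm (t • z) = t • eU.symm z
          apply eU.injective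
          rw [AlgEquiv.apply_symm_apply, Algebra.smul_def, Algebra.smul_def, map_mul, AlgEquiv.apply_symm_apply,
            IsScalarTower.algebraMap_apply (MvPolynomial (Fin n) A) B (Localization.Away g), eU.commutes]
          congr 1
          show ψ t = _
          rw [hψ]
          rfl }

end Groth.Agent.RegSeqSlice

namespace Groth.Agent.RegSeqSlice

/-- The zero scheme of flat coordinates is flat over the base. -/
theorem flat_quot {A B : Type u} [CommRing A] [CommRing B] [Algebra A B] {n : ℕ}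
    [Algebra (MvPolynomial (Fin n) A) B] [IsScalarTower A (MvPolynomial (Fin n) A) B]
    [Module.Flat (MvPolynomial (Fin n) A) B] (I : Ideal B)
    (hI : I = Ideal.ofList (List.ofFn fun i => algebraMap (MvPolynomial (Fin n) A) B (MvPolynomial.X i))) :
    Module.Flat A (B ⧸ I) := by
  let J : Ideal (MvPolynomial (Fin n) A) := Ideal.ofList (List.ofFn fun i : Fin n => MvPolynomial.X i)
  have hJI : J.map (algebraMap (MvPolynomial (Fin n) A) B) = I := by
    rw [hI]
    show Ideal.map _ (Ideal.ofList _) = _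
    rw [Ideal.map_ofList, List.map_ofFn]
    rfl
  subst hJI
  have h1 : Module.Flat (MvPolynomial (Fin n) A ⧸ J) (B ⧸ J.map (algebraMap (MvPolynomial (Fin n) A) B)) :=
    Module.Flat.of_linearEquiv (Algebra.TensorProduct.quotIdealMapEquivQuotTensor B J).toLinearEquiv
  have hbij : Function.Bijective ((Ideal.Quotient.mk J).comp MvPolynomial.C) := by
    refine ⟨fun a c hac => ?_, fun z => ?_⟩
    · have hker : J ≤ RingHom.ker (MvPolynomial.constantCoeff (σ := Fin n) (R := A)) := Ideal.span_le.2 fun z hz => by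
        obtain ⟨i, rfl⟩ := List.mem_ofFn.1 hz
        exact MvPolynomial.constantCoeff_X (R := A) i
      have h2 := hker (Ideal.Quotient.eq.1 hac)
      rw [RingHom.mem_ker, map_sub, MvPolynomial.constantCoeff_C, MvPolynomial.constantCoeff_C, sub_eq_zero] at h2
      exact h2
    · obtain ⟨w, rfl⟩ := Ideal.Quotient.mk_surjective z
      exact ⟨MvPolynomial.constantCoeff w, (Ideal.Quotient.eq.2 (sub_C_constantCoeff_mem w)).symm⟩
  rw [← RingHom.flat_algebraMap_iff]
  have hcomp : algebraMap A (B ⧸ J.map (algebraMap (MvPolynomial (Fin n) A) B)) =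
      (algebraMap (MvPolynomial (Fin n) A ⧸ J) (B ⧸ J.map (algebraMap (MvPolynomial (Fin n) A) B))).comp
        ((Ideal.Quotient.mk J).comp MvPolynomial.C) := RingHom.ext fun r =>
    congrArg (Ideal.Quotient.mk (J.map (algebraMap (MvPolynomial (Fin n) A) B)))
      (IsScalarTower.algebraMap_apply A (MvPolynomial (Fin n) A) B r)
  rw [hcomp]
  exact (RingHom.Flat.of_bijective hbij).comp (RingHom.flat_algebraMap_iff.2 h1)

set_option maxHeartbeats 800000 in
open RingTheory.Sequence IsLocalRing CategoryTheory.Limits in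
/-- Slicing by germs inducing a regular sequence in the fibre. -/
theorem exists_regular_slice {X S : Scheme.{u}} (f : X ⟶ S) [LocallyOfFinitePresentation f] (x : X)
    (hflat : (f.stalkMap x).hom.Flat) {n : ℕ} (h : Fin n → X.presheaf.stalk x) (hm : ∀ i, h i ∈ maximalIdeal (X.presheaf.stalk x))
    (hreg : IsWeaklyRegular (↑(X.presheaf.stalk x) ⧸ Ideal.map (f.stalkMap x).hom (maximalIdeal ↑(S.presheaf.stalk (f x))))
      (List.ofFn fun i => Ideal.Quotient.mk (Ideal.map (f.stalkMap x).hom (maximalIdeal ↑(S.presheaf.stalk (f x)))) (h i))) :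
    ∃ (U : X.Opens) (hU : IsAffineOpen U) (hx : x ∈ U) (b : Fin n → Γ(X, U)),
      (∀ i, X.presheaf.germ U x hx (b i) = h i) ∧ IsWeaklyRegular Γ(X, U) (List.ofFn b) ∧
      Mor2.IsRegularClosedImmersion (Spec.map (CommRingCat.ofHom (Ideal.Quotient.mk (Ideal.ofList (List.ofFn b)))) ≫ hU.isoSpec.inv) ∧
      x ∈ Set.range ⇑(Spec.map (CommRingCat.ofHom (Ideal.Quotient.mk (Ideal.ofList (List.ofFn b)))) ≫ hU.fromSpec) ∧
      Flat (Spec.map (CommRingCat.ofHom (Ideal.Quotient.mk (Ideal.ofList (List.ofFn b)))) ≫ hU.fromSpec ≫ f) ∧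
      LocallyOfFinitePresentation (Spec.map (CommRingCat.ofHom (Ideal.Quotient.mk (Ideal.ofList (List.ofFn b)))) ≫ hU.fromSpec ≫ f) ∧
      ∀ (S' : Scheme.{u}) (g : S' ⟶ S), Mor2.IsRegularClosedImmersion
        (pullback.map (Spec.map (CommRingCat.ofHom (Ideal.Quotient.mk (Ideal.ofList (List.ofFn b)))) ≫ hU.isoSpec.inv ≫ U.ι ≫ f) g (U.ι ≫ f) g (Spec.map (CommRingCat.ofHom (Ideal.Quotient.mk (Ideal.ofList (List.ofFn b)))) ≫ hU.isoSpec.inv) (𝟙 S') (𝟙 S)
          (Category.comp_id _) ((Category.comp_id g).trans (Category.id_comp g).symm)) := by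
  obtain ⟨W, U, hW, hU, hx, e, b, hb, hfl⟩ := exists_flat_coordinates f x hflat h hm hreg
  letI : Algebra Γ(S, W) Γ(X, U) := (f.appLE W U e).hom.toAlgebra
  letI algT : Algebra (MvPolynomial (Fin n) Γ(S, W)) Γ(X, U) := (MvPolynomial.aeval (R := Γ(S, W)) b).toRingHom.toAlgebra
  haveI : IsScalarTower Γ(S, W) (MvPolynomial (Fin n) Γ(S, W)) Γ(X, U) := IsScalarTower.of_algHom (MvPolynomial.aeval b)
  haveI : Module.Flat (MvPolynomial (Fin n) Γ(S, W)) Γ(X, U) := hfl
  haveI : Algebra.FinitePresentation Γ(S, W) Γ(X, U) := f.finitePresentation_appLE hW hU e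
  have hrs : List.ofFn b = List.ofFn fun i => algebraMap (MvPolynomial (Fin n) Γ(S, W)) Γ(X, U) (MvPolynomial.X i) :=
    congrArg List.ofFn (funext fun i => (MvPolynomial.aeval_X b i).symm)
  let I : Ideal Γ(X, U) := Ideal.ofList (List.ofFn b)
  have hwr : IsWeaklyRegular Γ(X, U) (List.ofFn b) := by rw [hrs]; exact isWeaklyRegular_of_flat
  haveI : Module.Flat Γ(S, W) (Γ(X, U) ⧸ I) := flat_quot (n := n) I (congrArg Ideal.ofList hrs)
  haveI : Algebra.FinitePresentation Γ(S, W) (Γ(X, U) ⧸ I) :=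
    Algebra.FinitePresentation.quotient (Submodule.fg_def.2 ⟨{z | z ∈ List.ofFn b}, List.finite_toSet _, rfl⟩)
  haveI : Flat (Spec.map (CommRingCat.ofHom (algebraMap Γ(S, W) (Γ(X, U) ⧸ I)))) :=
    HasRingHomProperty.Spec_iff.2 (RingHom.flat_algebraMap_iff.2 inferInstance)
  haveI : LocallyOfFinitePresentation (Spec.map (CommRingCat.ofHom (algebraMap Γ(S, W) (Γ(X, U) ⧸ I)))) :=
    HasRingHomProperty.Spec_iff.2 (RingHom.finitePresentation_algebraMap.2 inferInstance)
  have hfac : hU.fromSpec ≫ f = Spec.map (CommRingCat.ofHom (algebraMap Γ(S, W) Γ(X, U))) ≫ hW.fromSpec :=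
    (IsAffineOpen.SpecMap_appLE_fromSpec f hW hU e).symm
  have hcomp : Spec.map (CommRingCat.ofHom (Ideal.Quotient.mk I)) ≫ hU.fromSpec ≫ f =
      Spec.map (CommRingCat.ofHom (algebraMap Γ(S, W) (Γ(X, U) ⧸ I))) ≫ hW.fromSpec := by
    rw [hfac, ← Spec.map_comp_assoc]
    rfl
  haveI : IsClosedImmersion (Spec.map (CommRingCat.ofHom (Ideal.Quotient.mk I))) :=
    IsClosedImmersion.spec_of_surjective _ Ideal.Quotient.mk_surjective
  refine ⟨U, hU, hx, b, hb, hwr, ⟨inferInstance, fun z => ?_⟩, ?_, ?_, ?_, fun S' g => ?_⟩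
  · exact exists_regular_affineOpen (Spec.map (CommRingCat.ofHom (Ideal.Quotient.mk I)) ≫ hU.isoSpec.inv) hU.isoSpec.inv
      (List.ofFn b) hwr (𝟙 _) (IsPullback.of_vert_isIso ⟨(Category.id_comp _).symm⟩) z (hU.isoSpec.inv.surjective _)
  · have hIq : I ≤ (hU.primeIdealOf ⟨x, hx⟩).asIdeal := Ideal.span_le.2 fun r hr => by
      obtain ⟨i, rfl⟩ := List.mem_ofFn.1 hr
      letI : Algebra Γ(X, U) (X.presheaf.stalk x) := TopCat.Presheaf.algebra_section_stalk X.presheaf ⟨x, hx⟩
      haveI := hU.isLocalization_stalk ⟨x, hx⟩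
      rw [SetLike.mem_coe, ← IsLocalization.AtPrime.to_map_mem_maximal_iff (X.presheaf.stalk x) (hU.primeIdealOf ⟨x, hx⟩).asIdeal]
      show X.presheaf.germ U x hx (b i) ∈ _
      rw [hb]
      exact hm i
    haveI : ((hU.primeIdealOf ⟨x, hx⟩).asIdeal.map (Ideal.Quotient.mk I)).IsPrime :=
      Ideal.map_isPrime_of_surjective Ideal.Quotient.mk_surjective (by rw [Ideal.mk_ker]; exact hIq)
    let z : Spec (CommRingCat.of (Γ(X, U) ⧸ I)) := (⟨(hU.primeIdealOf ⟨x, hx⟩).asIdeal.map (Ideal.Quotient.mk I), inferInstance⟩ : PrimeSpectrum (Γ(X, U) ⧸ I))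
    have hz : Spec.map (CommRingCat.ofHom (Ideal.Quotient.mk I)) z = hU.primeIdealOf ⟨x, hx⟩ := PrimeSpectrum.ext (by
      show ((hU.primeIdealOf ⟨x, hx⟩).asIdeal.map (Ideal.Quotient.mk I)).comap (Ideal.Quotient.mk I) = _
      rw [Ideal.comap_map_of_surjective _ Ideal.Quotient.mk_surjective, ← RingHom.ker_eq_comap_bot, Ideal.mk_ker]
      exact sup_eq_left.2 hIq)
    exact ⟨z, by rw [Scheme.Hom.comp_apply, hz, hU.fromSpec_primeIdealOf]⟩
  · rw [hcomp]; infer_instance
  · rw [hcomp]; infer_instance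
  · exact isRegularClosedImmersion_baseChange (List.ofFn b) hrs hW.fromSpec hU.isoSpec.symm (U.ι ≫ f)
      (by rw [← hfac]; rfl) (Iso.refl _) _ (by rw [Iso.refl_hom, Category.id_comp]; rfl) _ g _ _

end Groth.Agent.RegSeqSlice
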