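import Groth.Agent.RegSeqSlice.BaseChange
import Groth.Agent.SmoothSliceLib.Scheme
import Groth.Agent.SmoothSliceLib.Point

/-!
A section of a smooth morphism is a regular closed immersion.
-/

set_option autoImplicit false
universe u
open CategoryTheory AlgebraicGeometry TensorProduct KaehlerDifferential

namespace Groth.Agent.RegSeqSlice

set_option maxHeartbeats 800000 in
/-- Near a retraction, the kernel is cut out by étale coordinates. -/
theorem exists_section_chart {A T : Type u} [CommRing A] [CommRing T] [Algebra A T] [Algebra.IsStandardSmooth A T]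
    (a : A) (ha : IsUnit (algebraMap A T a)) (τ : T →ₐ[A] Localization.Away a) (P : Ideal (Localization.Away a)) [P.IsPrime] :
    ∃ (n : ℕ) (t : T) (R : Type u) (_ : CommRing R) (_ : Algebra T R) (fs : Fin n → R) (χ : R →+* Localization.Away (τ t)),
      τ t ∉ P ∧ IsUnit (algebraMap T R t) ∧ IsOpenImmersion (Spec.map (CommRingCat.ofHom (algebraMap T R))) ∧
      RingTheory.Sequence.IsWeaklyRegular R (List.ofFn fs) ∧
      χ.comp (algebraMap T R) = (algebraMap (Localization.Away a) (Localization.Away (τ t))).comp τ.toRingHom ∧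
      Function.Surjective χ ∧ RingHom.ker χ = Ideal.ofList (List.ofFn fs) := by
  classical
  let A' := Localization.Away a
  let q : Ideal T := P.comap τ.toRingHom
  haveI : q.IsPrime := Ideal.IsPrime.comap _
  haveI : Nontrivial T := ⟨0, 1, fun h => (‹q.IsPrime›.ne_top) ((Ideal.eq_top_iff_one q).2 (h ▸ q.zero_mem))⟩
  let K := q.ResidueField
  let v : T → K ⊗[T] Ω[T⁄A] := fun r => (1 : K) ⊗ₜ[T] D A T r
  have hspan : Submodule.span K (v '' (RingHom.ker τ.toRingHom : Set T)) = ⊤ := by
    rw [eq_top_iff, ← SmoothSliceLib.span_range_differentials (A := A) q, Submodule.span_le]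
    rintro _ ⟨r, rfl⟩
    obtain ⟨⟨c, ⟨w, k, hk⟩⟩, hc⟩ := IsLocalization.surj (Submonoid.powers a) (τ r)
    have hk' : a ^ k = w := hk
    let f : T := algebraMap A T w * r - algebraMap A T c
    have hf : f ∈ RingHom.ker τ.toRingHom := by
      show τ f = 0
      rw [map_sub, map_mul, τ.commutes, τ.commutes, mul_comm, hc, sub_self]
    have hvf : v f = algebraMap T K (algebraMap A T w) • v r := by
      simp only [v, f]
      rw [map_sub, Derivation.leibniz, Derivation.map_algebraMap, Derivation.map_algebraMap, smul_zero, add_zero, sub_zero,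
        TensorProduct.tmul_smul]
      exact (algebraMap_smul K (algebraMap A T w) _).symm
    have hw : algebraMap T K (algebraMap A T w) ≠ 0 := by
      rw [← hk']
      exact ((IsUnit.map _ (by rw [map_pow]; exact ha.pow k)) : IsUnit _).ne_zero
    show v r ∈ Submodule.span K _
    rw [← inv_smul_smul₀ hw (v r), ← hvf]
    exact Submodule.smul_mem _ _ (Submodule.subset_span ⟨f, hf, rfl⟩)
  obtain ⟨s, hss, hsp, hli⟩ := exists_linearIndependent K (v '' (RingHom.ker τ.toRingHom : Set T))
  rw [hspan] at hsp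
  let b₀ : Module.Basis s K (K ⊗[T] Ω[T⁄A]) := Module.Basis.mk hli (by rw [Subtype.range_coe, hsp])
  let b := Module.finBasis T Ω[T⁄A]
  let σ := b₀.indexEquiv (b.baseChange K)
  choose f hfk hf using fun i => hss (σ.symm i).2
  have hlf : LinearIndependent K fun i => v (f i) := by
    rw [show (fun i => v (f i)) = b₀ ∘ σ.symm from funext fun i => by
      rw [Function.comp_apply, Module.Basis.mk_apply]; exact hf i]
    exact b₀.linearIndependent.comp _ σ.symm.injective
  obtain ⟨Dt, hDt, het⟩ := SmoothSliceLib.exists_etale_coords b K f hlf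
  have hDtP : τ Dt ∉ P := fun h => hDt (Ideal.algebraMap_residueField_eq_zero.2 h)
  let U := Localization.Away Dt
  let A'' := Localization.Away (τ Dt)
  have hu : IsUnit ((algebraMap A' A'').comp τ.toRingHom Dt) := IsLocalization.Away.algebraMap_isUnit (τ Dt)
  let χ₀ : U →+* A'' := IsLocalization.Away.lift Dt hu
  have hχ₀ : ∀ z, χ₀ (algebraMap T U z) = algebraMap A' A'' (τ z) := fun z => IsLocalization.Away.lift_eq Dt hu z
  let P₀ := MvPolynomial (Fin (Module.finrank T Ω[T⁄A])) A
  let φ : P₀ →ₐ[A] U := MvPolynomial.aeval fun i => algebraMap T U (f i)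
  letI algP : Algebra (MvPolynomial (Fin (Module.finrank T Ω[T⁄A])) A) U := φ.toRingHom.toAlgebra
  haveI : IsScalarTower A (MvPolynomial (Fin (Module.finrank T Ω[T⁄A])) A) U := IsScalarTower.of_algHom φ
  haveI : Algebra.Etale (MvPolynomial (Fin (Module.finrank T Ω[T⁄A])) A) U := het
  let J : Ideal (MvPolynomial (Fin (Module.finrank T Ω[T⁄A])) A) := Ideal.ofList (List.ofFn fun i => MvPolynomial.X i)
  let I : Ideal U := Ideal.ofList (List.ofFn fun i => algebraMap T U (f i))
  have hJI : J.map (algebraMap (MvPolynomial (Fin (Module.finrank T Ω[T⁄A])) A) U) = I := by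
    show Ideal.map _ (Ideal.ofList _) = _
    rw [Ideal.map_ofList, List.map_ofFn]
    exact congrArg Ideal.ofList (congrArg List.ofFn (funext fun i => MvPolynomial.aeval_X _ i))
  haveI hC : Algebra.Etale A (U ⧸ I) := by
    rw [← hJI]
    exact SmoothSliceLib.etale_quot MvPolynomial.C (RingHom.ext fun r => φ.commutes r) J (CMSliceLib.bijective_mk_C J rfl)
  let C := U ⧸ I
  let π : C →+* A'' := Ideal.Quotient.lift I χ₀ fun z hz => by
    refine (Ideal.span_le.2 (fun w hw => ?_) : I ≤ RingHom.ker χ₀) hz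
    obtain ⟨i, rfl⟩ := List.mem_ofFn.1 hw
    show χ₀ (algebraMap T U (f i)) = 0
    rw [hχ₀, show τ (f i) = 0 from hfk i, map_zero]
  letI algC : Algebra C A'' := π.toAlgebra
  haveI : IsScalarTower A C A'' := IsScalarTower.of_algebraMap_eq (R := A) (S := C) (A := A'') fun r => by
    show algebraMap A A'' r = χ₀ (algebraMap A U r)
    rw [IsScalarTower.algebraMap_apply A T U, hχ₀, τ.commutes, ← IsScalarTower.algebraMap_apply]
  have hχs : Function.Surjective χ₀ := fun z => by
    obtain ⟨⟨x, ⟨_, n, rfl⟩⟩, hz⟩ := IsLocalization.surj (Submonoid.powers (τ Dt)) z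
    obtain ⟨⟨c, ⟨_, k, rfl⟩⟩, hx⟩ := IsLocalization.surj (Submonoid.powers a) x
    obtain ⟨ia, hia⟩ := (ha.pow k).exists_right_inv
    have hD : IsUnit (algebraMap T U (Dt ^ n)) := by rw [map_pow]; exact (IsLocalization.Away.algebraMap_isUnit Dt).pow n
    obtain ⟨iD, hiD⟩ := hD.exists_right_inv
    refine ⟨algebraMap T U (algebraMap A T c * ia) * iD, ?_⟩
    refine (IsLocalization.map_units A'' (⟨τ Dt ^ n, n, rfl⟩ : Submonoid.powers (τ Dt))).mul_left_injective ?_
    show χ₀ _ * algebraMap A' A'' (τ Dt ^ n) = z * algebraMap A' A'' (τ Dt ^ n)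
    rw [hz, ← map_pow τ, ← hχ₀, ← map_mul, mul_assoc,
      mul_comm iD, hiD, mul_one, hχ₀]
    refine congrArg (algebraMap A' A'') ?_
    refine (IsLocalization.map_units A' (⟨a ^ k, k, rfl⟩ : Submonoid.powers a)).mul_left_injective ?_
    show τ (algebraMap A T c * ia) * algebraMap A A' (a ^ k) = x * algebraMap A A' (a ^ k)
    rw [hx, ← τ.commutes, ← map_mul, map_pow, mul_assoc, mul_comm ia, hia, mul_one, τ.commutes]
  have hπs : Function.Surjective π := fun z => by
    obtain ⟨w, rfl⟩ := hχs z
    exact ⟨Ideal.Quotient.mk I w, rfl⟩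
  haveI : Algebra.Etale A A' := Algebra.Etale.of_isLocalizationAway a
  haveI : Algebra.Etale A A'' := inferInstance
  haveI : Algebra.Etale C A'' := Algebra.Etale.of_restrictScalars (R := A) (A := C) (B := A'')
  have hidem := (Algebra.FormallyEtale.iff_of_surjective (R := C) (S := A'') hπs).1 inferInstance
  have hfg : (RingHom.ker (algebraMap C A'')).FG :=
    Algebra.FinitePresentation.ker_fG_of_surjective (Algebra.ofId C A'') hπs
  obtain ⟨e, he, hK⟩ := (Ideal.isIdempotentElem_iff_of_fg _ hfg).1 hidem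
  obtain ⟨g, hg⟩ := Ideal.Quotient.mk_surjective (1 - e : C)
  have hχg : χ₀ g = 1 := by
    show π (Ideal.Quotient.mk I g) = 1
    have he0 : π e = 0 := hK.ge (Submodule.mem_span_singleton_self e)
    rw [hg, map_sub, map_one, he0, sub_zero]
  let R := Localization.Away g
  let χ : R →+* A'' := IsLocalization.Away.lift g (by rw [hχg]; exact isUnit_one)
  have hχ : ∀ z, χ (algebraMap U R z) = χ₀ z := fun z => IsLocalization.Away.lift_eq g _ z
  refine ⟨Module.finrank T Ω[T⁄A], Dt, R, inferInstance, inferInstance, fun i => algebraMap T R (f i), χ, hDtP, ?_, ?_, ?_, ?_, ?_, ?_⟩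
  · rw [IsScalarTower.algebraMap_apply T U R]
    exact (IsLocalization.Away.algebraMap_isUnit Dt).map _
  · rw [IsScalarTower.algebraMap_eq T U R, CommRingCat.ofHom_comp, Spec.map_comp]
    haveI : IsOpenImmersion (Spec.map (CommRingCat.ofHom (algebraMap T U))) := IsOpenImmersion.of_isLocalization Dt
    haveI : IsOpenImmersion (Spec.map (CommRingCat.ofHom (algebraMap U R))) := IsOpenImmersion.of_isLocalization g
    infer_instance
  · haveI : Module.Flat U R := IsLocalization.flat _ (Submonoid.powers g)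
    haveI : Module.Flat (MvPolynomial (Fin (Module.finrank T Ω[T⁄A])) A) R := Module.Flat.trans _ U R
    have h := isWeaklyRegular_of_flat (A := A) (B := R) (n := Module.finrank T Ω[T⁄A])
    have he : ∀ i, algebraMap (MvPolynomial (Fin (Module.finrank T Ω[T⁄A])) A) R (MvPolynomial.X i) = algebraMap T R (f i) := fun i => by
      rw [IsScalarTower.algebraMap_apply _ U R, IsScalarTower.algebraMap_apply T U R]
      exact congrArg (algebraMap U R) (MvPolynomial.aeval_X _ i)
    rwa [funext he] at h
  · refine RingHom.ext fun z => ?_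
    show χ (algebraMap T R z) = algebraMap A' A'' (τ z)
    rw [IsScalarTower.algebraMap_apply T U R, hχ, hχ₀]
  · exact fun z => ⟨algebraMap U R (hχs z).choose, (hχ _).trans (hχs z).choose_spec⟩
  · have hI : I.map (algebraMap U R) = Ideal.ofList (List.ofFn fun i => algebraMap T R (f i)) := by
      rw [Ideal.map_ofList, List.map_ofFn]
      exact congrArg Ideal.ofList (congrArg List.ofFn (funext fun i => (IsScalarTower.algebraMap_apply T U R _).symm))
    rw [← hI]
    refine le_antisymm (fun z hz => ?_) (Ideal.map_le_iff_le_comap.2 fun z hz => ?_)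
    · obtain ⟨⟨w, ⟨d, k, hd⟩⟩, hw⟩ := IsLocalization.surj (Submonoid.powers g) z
      have h0 : χ₀ w = 0 := by rw [← hχ, ← hw, map_mul, RingHom.mem_ker.1 hz, zero_mul]
      obtain ⟨c, hc⟩ := Submodule.mem_span_singleton.1 (hK.le (show Ideal.Quotient.mk I w ∈ RingHom.ker (algebraMap C A'') from h0))
      have hgw : g * w ∈ I := by
        rw [← Ideal.Quotient.eq_zero_iff_mem, map_mul, hg, ← hc, smul_eq_mul, sub_mul, one_mul, mul_left_comm e c e, he, sub_self]
      have h1 := Ideal.mem_map_of_mem (algebraMap U R) hgw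
      rw [map_mul, Ideal.unit_mul_mem_iff_mem _ (IsLocalization.Away.algebraMap_isUnit g), ← hw] at h1
      exact (Ideal.mul_unit_mem_iff_mem _ (IsLocalization.map_units R _)).1 h1
    · rw [Ideal.mem_comap, RingHom.mem_ker, hχ]
      show π (Ideal.Quotient.mk I z) = 0
      rw [Ideal.Quotient.eq_zero_iff_mem.2 hz, map_zero]

set_option maxHeartbeats 800000 in
/-- A section of a smooth morphism which is a closed immersion is regular. -/
theorem isRegularClosedImmersion_section {X S : Scheme.{u}} (f : X ⟶ S) [Smooth f] (σ : S ⟶ X) (hσ : σ ≫ f = 𝟙 S)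
    [IsClosedImmersion σ] : Mor2.IsRegularClosedImmersion σ := by
  refine ⟨inferInstance, fun y => ?_⟩
  have hfσ : ∀ z, f (σ z) = z := fun z => by rw [← Scheme.Hom.comp_apply, hσ]; rfl
  obtain ⟨c, hc⟩ := SmoothSliceLib.exists_std_chart f (σ y)
  have hp : c.i c.p = y := c.hp.trans (hfσ y)
  obtain ⟨_, ⟨a, rfl⟩, hap, hasub⟩ := PrimeSpectrum.isTopologicalBasis_basic_opens.exists_subset_of_mem_open
    (show c.p ∈ ((c.i ≫ σ) ⁻¹' Set.range c.j : Set (PrimeSpectrum c.A)) from ⟨c.q, by rw [c.hq, Scheme.Hom.comp_apply, hp]⟩)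
    (c.j.isOpenEmbedding.isOpen_range.preimage (c.i ≫ σ).continuous)
  let A' := Localization.Away a
  let incl : Spec (.of A') ⟶ Spec (.of c.A) := Spec.map (CommRingCat.ofHom (algebraMap c.A A'))
  haveI : IsOpenImmersion incl := IsOpenImmersion.of_isLocalization a
  have hincl : ∀ z : Spec (.of A'), incl z ∈ (PrimeSpectrum.basicOpen a : Set (PrimeSpectrum c.A)) := fun z h =>
    z.isPrime.ne_top (z.asIdeal.eq_top_of_isUnit_mem h (IsLocalization.Away.algebraMap_isUnit a))
  let ψ := IsOpenImmersion.lift c.j (incl ≫ c.i ≫ σ) (by rintro _ ⟨z, rfl⟩; exact hasub (hincl z))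
  have hψ : ψ ≫ c.j = incl ≫ c.i ≫ σ := IsOpenImmersion.lift_fac _ _ _
  have hψ' : ψ ≫ Spec.map (CommRingCat.ofHom (algebraMap c.A c.B)) = incl := by
    rw [← cancel_mono c.i, Category.assoc, ← c.w, ← Category.assoc, hψ, Category.assoc, Category.assoc, hσ, Category.comp_id]
  let τ₀ : c.B →ₐ[c.A] A' := { (Spec.preimage ψ).hom with
    commutes' := fun r => by
      have h1 : CommRingCat.ofHom (algebraMap c.A c.B) ≫ Spec.preimage ψ = CommRingCat.ofHom (algebraMap c.A A') :=
        Spec.map_injective (by rw [Spec.map_comp, Spec.map_preimage, hψ'])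
      exact congrArg (fun φ => φ.hom r) h1 }
  let T := Localization.Away (algebraMap c.A c.B a)
  haveI : Algebra.IsStandardSmooth c.B T := Algebra.IsStandardSmooth.localization_away (algebraMap c.A c.B a)
  haveI : Algebra.IsStandardSmooth c.A c.B := hc
  haveI : Algebra.IsStandardSmooth c.A T := Algebra.IsStandardSmooth.trans c.A c.B T
  have haT : IsUnit (algebraMap c.A T a) := by
    rw [IsScalarTower.algebraMap_apply c.A c.B T]; exact IsLocalization.Away.algebraMap_isUnit _
  have hu₀ : IsUnit (τ₀.toRingHom (algebraMap c.A c.B a)) := by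
    show IsUnit (τ₀ (algebraMap c.A c.B a))
    rw [τ₀.commutes]; exact IsLocalization.Away.algebraMap_isUnit a
  let τ : T →ₐ[c.A] A' := { IsLocalization.Away.lift (algebraMap c.A c.B a) hu₀ with
    commutes' := fun r => by
      show IsLocalization.Away.lift (algebraMap c.A c.B a) hu₀ (algebraMap c.A T r) = _
      rw [IsScalarTower.algebraMap_apply c.A c.B T, IsLocalization.Away.lift_eq]
      exact τ₀.commutes r }
  have hτ : ∀ z, τ (algebraMap c.B T z) = τ₀ z := fun z => IsLocalization.Away.lift_eq _ hu₀ z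
  obtain ⟨P, hP⟩ := (PrimeSpectrum.localization_away_comap_range A' a).ge hap
  obtain ⟨n, t, R, _, _, fs, χ, htP, htu, hopen, hreg, hχ, hsurj, hker⟩ := exists_section_chart a haT τ P.asIdeal
  haveI := hopen
  let A'' := Localization.Away (τ t)
  let iBT : Spec (.of T) ⟶ Spec (.of c.B) := Spec.map (CommRingCat.ofHom (algebraMap c.B T))
  haveI : IsOpenImmersion iBT := IsOpenImmersion.of_isLocalization (algebraMap c.A c.B a)
  let iA'' : Spec (.of A'') ⟶ Spec (.of A') := Spec.map (CommRingCat.ofHom (algebraMap A' A''))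
  haveI : IsOpenImmersion iA'' := IsOpenImmersion.of_isLocalization (τ t)
  let jR := Spec.map (CommRingCat.ofHom (algebraMap T R)) ≫ iBT ≫ c.j
  let k := iA'' ≫ incl ≫ c.i
  have hχψ : Spec.map (CommRingCat.ofHom χ) ≫ Spec.map (CommRingCat.ofHom (algebraMap T R)) ≫ iBT = iA'' ≫ ψ := by
    rw [← Spec.map_preimage ψ]
    simp only [iBT, iA'', ← Spec.map_comp]
    congr 1
    refine CommRingCat.hom_ext (RingHom.ext fun z => ?_)
    show χ (algebraMap T R (algebraMap c.B T z)) = algebraMap A' A'' (τ₀ z)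
    rw [← RingHom.comp_apply χ, hχ, RingHom.comp_apply]
    exact congrArg _ (hτ z)
  have hw : k ≫ σ = Spec.map (CommRingCat.ofHom χ) ≫ jR := by
    simp only [jR, k, Category.assoc]
    rw [← hψ, ← Category.assoc iA'' ψ, ← hχψ]
    simp only [Category.assoc]
  have hpb : IsPullback (Spec.map (CommRingCat.ofHom χ)) k jR σ := by
    refine IsOpenImmersion.isPullback _ _ _ _ hw ?_
    refine TopologicalSpace.Opens.ext (Set.Subset.antisymm ?_ ?_)
    · rintro s ⟨r, hr⟩
      let zT : Spec (.of T) := Spec.map (CommRingCat.ofHom (algebraMap T R)) r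
      let zB : Spec (.of c.B) := iBT zT
      have hzB : c.j zB = σ s := hr
      have hsA : c.i (Spec.map (CommRingCat.ofHom (algebraMap c.A c.B)) zB) = s := by
        rw [← Scheme.Hom.comp_apply, ← c.w, Scheme.Hom.comp_apply, hzB, hfσ]
      have hza : Spec.map (CommRingCat.ofHom (algebraMap c.A c.B)) zB ∈ (PrimeSpectrum.basicOpen a : Set (PrimeSpectrum c.A)) := fun h =>
        zT.isPrime.ne_top (zT.asIdeal.eq_top_of_isUnit_mem h (IsLocalization.Away.algebraMap_isUnit _))
      obtain ⟨Q, hQ⟩ := (PrimeSpectrum.localization_away_comap_range A' a).ge hza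
      have hQ' : c.i (incl Q) = s := (congrArg c.i hQ).trans hsA
      have hψQ : ψ Q = zB := c.j.isOpenEmbedding.injective (by
        rw [hzB, ← Scheme.Hom.comp_apply, hψ, Scheme.Hom.comp_apply, Scheme.Hom.comp_apply, hQ'])
      have htQ : τ t ∉ Q.asIdeal := fun hmem => by
        obtain ⟨⟨b, d⟩, hb⟩ := IsLocalization.surj (Submonoid.powers (algebraMap c.A c.B a)) t
        have hbQ : b ∈ zB.asIdeal := by
          rw [← hψQ, ← Spec.map_preimage ψ]
          show τ₀ b ∈ Q.asIdeal
          rw [← hτ, ← hb, map_mul]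
          exact Ideal.mul_mem_right _ _ hmem
        have hbT : algebraMap c.B T b ∈ zT.asIdeal := hbQ
        rw [← hb] at hbT
        exact r.isPrime.ne_top (r.asIdeal.eq_top_of_isUnit_mem
          ((Ideal.mul_unit_mem_iff_mem _ (IsLocalization.map_units T d)).1 hbT : t ∈ zT.asIdeal) htu)
      obtain ⟨Q', hQ''⟩ := (PrimeSpectrum.localization_away_comap_range A'' (τ t)).ge htQ
      exact ⟨Q', (congrArg (fun w => c.i (incl w)) hQ'').trans hQ'⟩
    · rintro _ ⟨z, rfl⟩
      exact ⟨Spec.map (CommRingCat.ofHom χ) z, by rw [← Scheme.Hom.comp_apply, ← hw, Scheme.Hom.comp_apply]⟩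
  let E : (R ⧸ Ideal.ofList (List.ofFn fs)) ≃+* A'' :=
    (Ideal.quotEquivOfEq hker.symm).trans (RingHom.quotientKerEquivOfSurjective hsurj)
  let eS : Spec (.of A'') ≅ Spec (.of (R ⧸ Ideal.ofList (List.ofFn fs))) := Scheme.Spec.mapIso E.toCommRingCatIso.op
  have hpb' : IsPullback (Spec.map (CommRingCat.ofHom (Ideal.Quotient.mk (Ideal.ofList (List.ofFn fs))))) (eS.inv ≫ k) jR σ := by
    refine hpb.of_iso eS (Iso.refl _) (Iso.refl _) (Iso.refl _) ?_ (by simp) (by simp) (by simp)
    rw [Iso.refl_hom, Category.comp_id]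
    show _ = Spec.map (CommRingCat.ofHom E.toRingHom) ≫ _
    rw [← Spec.map_comp]
    congr 1
  refine exists_regular_affineOpen σ jR (List.ofFn fs) hreg (eS.inv ≫ k) hpb' y ?_
  obtain ⟨P', hP'⟩ := (PrimeSpectrum.localization_away_comap_range A'' (τ t)).ge htP
  refine ⟨Spec.map (CommRingCat.ofHom χ) P', ?_⟩
  rw [← Scheme.Hom.comp_apply, ← hw, Scheme.Hom.comp_apply]
  exact congrArg σ ((congrArg (fun w => c.i (incl w)) hP').trans ((congrArg c.i hP).trans hp))

end Groth.Agent.RegSeqSlice
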