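import Groth.Agent.CMFlatLib.Poly

/-!
A map to affine space by elements inducing a regular sequence in the fibre is flat.
-/

set_option autoImplicit false
universe u
open IsLocalRing TensorProduct RingTheory.Sequence

namespace Groth.Agent.RegSeqSlice

open Groth.Agent.CMFlatLib

/-- A polynomial differs from its constant term by an element of the ideal of the variables. -/
theorem sub_C_constantCoeff_mem {A : Type u} [CommRing A] {n : ℕ} (v : MvPolynomial (Fin n) A) :
    v - MvPolynomial.C (MvPolynomial.constantCoeff v) ∈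
      Ideal.ofList (List.ofFn fun i : Fin n => (MvPolynomial.X i : MvPolynomial (Fin n) A)) := by
  induction v using MvPolynomial.induction_on with
  | C a => simp
  | add u v hu hv =>
    rw [map_add, map_add, show u + v - (MvPolynomial.C (MvPolynomial.constantCoeff u) + MvPolynomial.C (MvPolynomial.constantCoeff v)) =
      (u - MvPolynomial.C (MvPolynomial.constantCoeff u)) + (v - MvPolynomial.C (MvPolynomial.constantCoeff v)) by ring]
    exact add_mem hu hv
  | mul_X u i _ =>
    simp only [map_mul, MvPolynomial.constantCoeff_X, mul_zero, map_zero, sub_zero]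
    exact Ideal.mul_mem_left _ _ (Ideal.subset_span (List.mem_ofFn.2 ⟨i, rfl⟩))

/-- The prime over `p` containing all variables. -/
theorem le_map_sup_span_X {A : Type u} [CommRing A] {n : ℕ} (p : Ideal A) (P : Ideal (MvPolynomial (Fin n) A))
    [P.LiesOver p] (hX : ∀ i, MvPolynomial.X i ∈ P) :
    P ≤ p.map (algebraMap A (MvPolynomial (Fin n) A)) ⊔
      Ideal.ofList (List.ofFn fun i : Fin n => (MvPolynomial.X i : MvPolynomial (Fin n) A)) := by
  intro w hw
  let J : Ideal (MvPolynomial (Fin n) A) := Ideal.ofList (List.ofFn fun i : Fin n => (MvPolynomial.X i : MvPolynomial (Fin n) A))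
  have hJP : J ≤ P := Ideal.span_le.2 fun z hz => by obtain ⟨i, rfl⟩ := List.mem_ofFn.1 hz; exact hX i
  have key : ∀ v : MvPolynomial (Fin n) A, v - MvPolynomial.C (MvPolynomial.constantCoeff v) ∈ J := sub_C_constantCoeff_mem
  have h1 : MvPolynomial.constantCoeff w ∈ p := by
    rw [P.over_def p, Ideal.mem_comap, MvPolynomial.algebraMap_eq,
      show MvPolynomial.C (MvPolynomial.constantCoeff w) = w - (w - MvPolynomial.C (MvPolynomial.constantCoeff w)) by ring]
    exact sub_mem hw (hJP (key w))
  rw [show w = MvPolynomial.C (MvPolynomial.constantCoeff w) + (w - MvPolynomial.C (MvPolynomial.constantCoeff w)) by ring]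
  exact add_mem (Ideal.mem_sup_left (Ideal.mem_map_of_mem (algebraMap A (MvPolynomial (Fin n) A)) h1)) (Ideal.mem_sup_right (key w))

variable {A B : Type u} [CommRing A] [CommRing B] [Algebra A B] [Algebra.FinitePresentation A B]

/-- Elements inducing a regular sequence in the fibre define a flat map to affine space. -/
theorem flat_poly_of_fibre_regular {n : ℕ} [Algebra (MvPolynomial (Fin n) A) B] [IsScalarTower A (MvPolynomial (Fin n) A) B]
    (p : Ideal A) [p.IsPrime] (q : Ideal B) [q.IsPrime] [q.LiesOver p] [Module.Flat A (Localization.AtPrime q)]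
    (hq : ∀ i, algebraMap (MvPolynomial (Fin n) A) B (MvPolynomial.X i) ∈ q)
    (hreg : IsWeaklyRegular (Localization.AtPrime q ⧸ p.map (algebraMap A (Localization.AtPrime q)))
      (List.ofFn fun i => algebraMap B (Localization.AtPrime q ⧸ p.map (algebraMap A (Localization.AtPrime q)))
        (algebraMap (MvPolynomial (Fin n) A) B (MvPolynomial.X i)))) :
    Module.Flat (MvPolynomial (Fin n) A) (Localization.AtPrime q) := by
  let T := MvPolynomial (Fin n) A
  let P : Ideal T := q.under T
  haveI : q.LiesOver P := ⟨rfl⟩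
  haveI : P.LiesOver p := ⟨by rw [q.over_def p]; exact (Ideal.under_under q).symm⟩
  letI := Localization.AtPrime.algebraOfLiesOver P q
  haveI : IsScalarTower A (Localization.AtPrime P) (Localization.AtPrime q) := IsScalarTower.of_algebraMap_eq fun a => by
    rw [IsScalarTower.algebraMap_apply A T (Localization.AtPrime P), ← IsScalarTower.algebraMap_apply T (Localization.AtPrime P),
      ← IsScalarTower.algebraMap_apply]
  let J : Ideal T := p.map (algebraMap A T)
  let R := Localization.AtPrime P
  let L := Localization.AtPrime q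
  let I : Ideal R := J.map (algebraMap T R)
  have hI : I = p.map (algebraMap A R) := by
    rw [IsScalarTower.algebraMap_eq A T R, ← Ideal.map_map]
  have hIq : I.map (algebraMap R L) = p.map (algebraMap A L) := by
    rw [hI, Ideal.map_map, ← IsScalarTower.algebraMap_eq]
  obtain ⟨QT, hQT⟩ : ∃ QT : PrimeSpectrum (p.Fiber T),
      QT.asIdeal.comap (Algebra.TensorProduct.includeRight : T →ₐ[A] p.Fiber T).toRingHom = P :=
    ⟨PrimeSpectrum.preimageEquivFiber A T ⟨p, inferInstance⟩ ⟨⟨P, inferInstance⟩, PrimeSpectrum.ext (P.over_def p).symm⟩,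
      congrArg (fun z => z.1.asIdeal) ((PrimeSpectrum.preimageEquivFiber A T ⟨p, inferInstance⟩).symm_apply_apply
        ⟨⟨P, inferInstance⟩, PrimeSpectrum.ext (P.over_def p).symm⟩)⟩
  obtain ⟨Q, hQ⟩ : ∃ Q : PrimeSpectrum (p.Fiber B),
      Q.asIdeal.comap (Algebra.TensorProduct.includeRight : B →ₐ[A] p.Fiber B).toRingHom = q :=
    ⟨PrimeSpectrum.preimageEquivFiber A B ⟨p, inferInstance⟩ ⟨⟨q, inferInstance⟩, PrimeSpectrum.ext (q.over_def p).symm⟩,
      congrArg (fun z => z.1.asIdeal) ((PrimeSpectrum.preimageEquivFiber A B ⟨p, inferInstance⟩).symm_apply_apply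
        ⟨⟨q, inferInstance⟩, PrimeSpectrum.ext (q.over_def p).symm⟩)⟩
  have hXP : ∀ i, (MvPolynomial.X i : T) ∈ P := hq
  have hPle := le_map_sup_span_X p P hXP
  have htr : Algebra.trdeg (A ⧸ p) (T ⧸ P) = (0 : ℕ) := by
    have hs : Function.Surjective (algebraMap (A ⧸ p) (T ⧸ P)) := fun z => by
      obtain ⟨w, rfl⟩ := Ideal.Quotient.mk_surjective z
      refine ⟨Ideal.Quotient.mk p (MvPolynomial.constantCoeff w), ?_⟩
      show Ideal.Quotient.mk P (algebraMap A T _) = Ideal.Quotient.mk P w
      rw [Ideal.Quotient.eq]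
      have hJP : J ⊔ Ideal.ofList (List.ofFn fun i : Fin n => (MvPolynomial.X i : T)) ≤ P :=
        sup_le (Ideal.map_le_iff_le_comap.2 (P.over_def p).le)
          (Ideal.span_le.2 fun z hz => by obtain ⟨i, rfl⟩ := List.mem_ofFn.1 hz; exact hXP i)
      refine hJP (Ideal.mem_sup_right ?_)
      refine neg_mem_iff.1 ?_
      rw [neg_sub]
      exact sub_C_constantCoeff_mem w
    haveI : Algebra.IsAlgebraic (A ⧸ p) (T ⧸ P) := ⟨fun z => by
      obtain ⟨a, rfl⟩ := hs z; exact isAlgebraic_algebraMap a⟩
    rw [trdeg_eq_zero, Nat.cast_zero]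
  obtain ⟨hregT, a, ha, han⟩ := dim_polynomial_fibre n p P QT hQT 0 htr
  rw [add_zero] at han
  subst han
  obtain ⟨eT⟩ := exists_quotLocal_equiv p P QT.asIdeal hQT
  obtain ⟨eB⟩ := exists_quotLocal_equiv p q Q.asIdeal hQ
  let R₀ := R ⧸ I
  let S₀ := L ⧸ I.map (algebraMap R L)
  let eR : R₀ ≃+* Localization.AtPrime QT.asIdeal := (Ideal.quotEquivOfEq hI).trans eT
  let eS : S₀ ≃+* Localization.AtPrime Q.asIdeal := (Ideal.quotEquivOfEq hIq).trans eB
  haveI : IsNoetherianRing (p.Fiber B) := Algebra.FiniteType.isNoetherianRing p.ResidueField _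
  haveI : IsNoetherianRing (Localization.AtPrime Q.asIdeal) := IsLocalization.isNoetherianRing Q.asIdeal.primeCompl _ inferInstance
  haveI : IsRegularLocalRing (Localization.AtPrime QT.asIdeal) := hregT
  haveI : IsRegularLocalRing R₀ := IsRegularLocalRing.of_ringEquiv (R := Localization.AtPrime QT.asIdeal) (R' := R₀) eR.symm
  haveI : IsNoetherianRing S₀ := isNoetherianRing_of_ringEquiv _ eS.symm
  haveI : IsLocalRing S₀ := eS.symm.isLocalRing
  haveI : IsLocalHom (algebraMap R₀ S₀) := ⟨fun z hz => by
    obtain ⟨z, rfl⟩ := Ideal.Quotient.mk_surjective z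
    refine IsUnit.map _ ?_
    have h1 : IsUnit (Ideal.Quotient.mk (I.map (algebraMap R L)) (algebraMap R L z)) := by
      erw [Ideal.Quotient.algebraMap_quotient_map_quotient] at hz
      exact hz
    haveI : IsLocalHom (Ideal.Quotient.mk (I.map (algebraMap R L))) :=
      IsLocalHom.of_surjective _ Ideal.Quotient.mk_surjective
    exact (isUnit_map_iff (algebraMap R L) z).1 ((isUnit_map_iff _ _).1 h1)⟩
  let y : Fin a → R₀ := fun i => Ideal.Quotient.mk I (algebraMap T R (MvPolynomial.X i))
  have hy : maximalIdeal R₀ = Ideal.span (Set.range y) := by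
    have hne : I ≠ ⊤ := Ideal.Quotient.nontrivial_iff.1 inferInstance
    refine le_antisymm ?_ (Ideal.span_le.2 ?_)
    · rw [maximalIdeal_quot hne, ← Localization.AtPrime.map_eq_maximalIdeal (I := P)]
      refine (Ideal.map_mono (Ideal.map_mono hPle)).trans ?_
      rw [Ideal.map_sup, Ideal.map_sup, Ideal.map_quotient_self, bot_sup_eq, Ideal.ofList, Ideal.map_span, Ideal.map_span]
      refine Ideal.span_mono ?_
      rintro _ ⟨_, ⟨w, hw, rfl⟩, rfl⟩
      obtain ⟨i, rfl⟩ := List.mem_ofFn.1 hw
      exact ⟨i, rfl⟩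
    · rintro _ ⟨i, rfl⟩
      refine fun hu => ?_
      haveI : IsLocalHom (Ideal.Quotient.mk I) := IsLocalHom.of_surjective _ Ideal.Quotient.mk_surjective
      exact (IsLocalization.AtPrime.isUnit_to_map_iff R P _).1 ((isUnit_map_iff _ _).1 hu) (hXP i)
  have hdim : ringKrullDim R₀ = (a : WithBot ℕ∞) := (ringKrullDim_eq_of_ringEquiv eR).trans ha
  have hlist : maximalIdeal R₀ = Ideal.ofList (List.ofFn y) := by
    rw [hy, Ideal.ofList]; congr 1; ext z; simp [List.mem_ofFn]
  have hS : IsWeaklyRegular S₀ (List.ofFn y) := by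
    rw [← isWeaklyRegular_map_algebraMap_iff S₀ S₀ (List.ofFn y), List.map_ofFn]
    let e := Ideal.quotEquivOfEq hIq
    refine (e.toAddEquiv.isWeaklyRegular_congr ?_).2 hreg
    rw [List.forall₂_iff_get]
    refine ⟨by simp, fun i h₁ h₂ z => ?_⟩
    simp only [List.get_ofFn]
    show e (_ * z) = _ * e z
    rw [map_mul, Function.comp_apply]
    congr 1
    dsimp only [y]
    erw [Ideal.Quotient.algebraMap_quotient_map_quotient]
    rw [← IsScalarTower.algebraMap_apply T R L, IsScalarTower.algebraMap_apply T B L]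
    rfl
  haveI : Module.Flat R₀ S₀ := MiracleFlatLib.flat_of_isWeaklyRegular a R₀ S₀ (List.ofFn y) (List.length_ofFn) hlist
    (RegLocal.isRegular_of_generators R₀ hdim y hy.symm).toIsWeaklyRegular hS
  haveI : Module.Flat (R ⧸ I) (L ⧸ I.map (algebraMap R L)) := ‹Module.Flat R₀ S₀›
  haveI : Module.Flat T R := IsLocalization.flat _ P.primeCompl
  haveI := flat_quot_trans (T := T) (R := R) (L := L) J
  let e : L ≃ₗ[B] LocalizedModule q.primeCompl B :=
    (IsLocalizedModule.iso q.primeCompl (Algebra.linearMap B L)).symm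
  haveI : Module.Flat A (LocalizedModule q.primeCompl B) := Module.Flat.of_linearEquiv (e.restrictScalars A).symm
  haveI : Algebra.FinitePresentation T B := Algebra.FinitePresentation.of_restrict_scalars_finitePresentation A T B
  have hp : J ≤ q.comap (algebraMap T B) :=
    Ideal.map_le_iff_le_comap.2 (by rw [show q.comap (algebraMap T B) = P from rfl]; exact (P.over_def p).le)
  have := FlatLocus.flat_fibrewise_fp (R := A) (A := T) (B := B) (M := B) p q hp
    (flat_quot_tensor (e.restrictScalars T) J)
  exact Module.Flat.of_linearEquiv (e.restrictScalars T)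

end Groth.Agent.RegSeqSlice
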