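import Groth.Agent.CMSliceLib.Poly
import Mathlib.RingTheory.Regular.Flat
import Mathlib.RingTheory.TensorProduct.MvPolynomial

/-!
Regular sequences pulled back from the coordinates of affine space along a flat map.
-/

set_option autoImplicit false
universe u
open TensorProduct RingTheory.Sequence

namespace Groth.Agent.RegSeqSlice

/-- The coordinates are weakly regular after any base change. -/
theorem isWeaklyRegular_X_tensor (A : Type u) [CommRing A] (A' : Type u) [CommRing A'] [Algebra A A'] (n : ℕ) :
    IsWeaklyRegular (MvPolynomial (Fin n) A ⊗[A] A')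
      (List.ofFn fun i : Fin n => (MvPolynomial.X i : MvPolynomial (Fin n) A)) := by
  let e : MvPolynomial (Fin n) A ⊗[A] A' ≃+* MvPolynomial (Fin n) A' :=
    (Algebra.TensorProduct.comm A (MvPolynomial (Fin n) A) A').toRingEquiv.trans
      (MvPolynomial.algebraTensorAlgEquiv A A').toRingEquiv
  refine (e.toAddEquiv.isWeaklyRegular_congr ?_).2 (CMSliceLib.isWeaklyRegular_X A' n)
  rw [List.forall₂_iff_get]
  refine ⟨by simp, fun i h₁ h₂ z => ?_⟩
  simp only [List.get_ofFn]
  show e (_ • z) = _ * e z
  have hz : ∀ r : MvPolynomial (Fin n) A, r • z = (r ⊗ₜ[A] (1 : A')) * z := fun r => by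
    induction z using TensorProduct.induction_on with
    | zero => rw [smul_zero, mul_zero]
    | tmul a b => rw [TensorProduct.smul_tmul', Algebra.TensorProduct.tmul_mul_tmul, smul_eq_mul, one_mul]
    | add a b ha hb => rw [smul_add, mul_add, ha, hb]
  rw [hz, map_mul]
  congr 1
  show MvPolynomial.algebraTensorAlgEquiv A A'
    (Algebra.TensorProduct.comm A (MvPolynomial (Fin n) A) A' (MvPolynomial.X _ ⊗ₜ 1)) = _
  rw [Algebra.TensorProduct.comm_tmul, MvPolynomial.algebraTensorAlgEquiv_tmul, one_smul, MvPolynomial.map_X]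
  rfl

/-- Images of the coordinates under a flat map are weakly regular, universally. -/
theorem isWeaklyRegular_tensor {A B : Type u} [CommRing A] [CommRing B] [Algebra A B] (A' : Type u) [CommRing A'] [Algebra A A']
    {n : ℕ} [Algebra (MvPolynomial (Fin n) A) B] [IsScalarTower A (MvPolynomial (Fin n) A) B]
    [Module.Flat (MvPolynomial (Fin n) A) B] :
    IsWeaklyRegular (B ⊗[A] A')
      (List.ofFn fun i : Fin n => algebraMap B (B ⊗[A] A') (algebraMap (MvPolynomial (Fin n) A) B (MvPolynomial.X i))) := by
  have h := (isWeaklyRegular_X_tensor A A' n).of_flat_of_isBaseChange (S := B)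
    (TensorProduct.isBaseChange (MvPolynomial (Fin n) A) (MvPolynomial (Fin n) A ⊗[A] A') B)
  rw [List.map_ofFn, LinearEquiv.isWeaklyRegular_congr
    (AlgebraTensorModule.cancelBaseChange A (MvPolynomial (Fin n) A) B B A'),
    ← isWeaklyRegular_map_algebraMap_iff (B ⊗[A] A') (B ⊗[A] A'), List.map_ofFn] at h
  exact h

/-- Images of the coordinates under a flat map are weakly regular. -/
theorem isWeaklyRegular_of_flat {A B : Type u} [CommRing A] [CommRing B] [Algebra A B]
    {n : ℕ} [Algebra (MvPolynomial (Fin n) A) B] [Module.Flat (MvPolynomial (Fin n) A) B] :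
    IsWeaklyRegular B (List.ofFn fun i : Fin n => algebraMap (MvPolynomial (Fin n) A) B (MvPolynomial.X i)) := by
  have h := (CMSliceLib.isWeaklyRegular_X A n).of_flat (S := B)
  rwa [List.map_ofFn] at h

end Groth.Agent.RegSeqSlice
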